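import Mathlib
import Groth.Agent.CommAlgDim.Regular

/-!
# Regularity of Weierstrass models with `a₆` not in the square of the maximal ideal
-/

set_option autoImplicit false

universe u

open Polynomial IsLocalRing
open scoped Polynomial.Bivariate

namespace WeierRegLib

/-- A quotient of a ring by one element, regular at `P`. -/
theorem regular_of_surjective {T C : Type u} [CommRing T] [CommRing C] (φ : T →+* C) (hφ : Function.Surjective φ)
    (f : T) (hker : RingHom.ker φ = Ideal.span {f}) (P : Ideal C) [P.IsPrime]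
    [IsRegularLocalRing (Localization.AtPrime (P.comap φ))]
    (hf : ∀ s ∉ P.comap φ, s * f ∉ P.comap φ ^ 2) : IsRegularLocalRing (Localization.AtPrime P) := by
  let L := Localization.AtPrime (P.comap φ)
  let Φ : L →+* Localization.AtPrime P := Localization.localRingHom (P.comap φ) P φ rfl
  have hsurj : Function.Surjective Φ := fun y => by
    obtain ⟨b, ⟨s, hs⟩, rfl⟩ := IsLocalization.exists_mk'_eq P.primeCompl y
    obtain ⟨b, rfl⟩ := hφ b
    obtain ⟨s, rfl⟩ := hφ s
    exact ⟨IsLocalization.mk' L b (⟨s, hs⟩ : (P.comap φ).primeCompl), Localization.localRingHom_mk' _ _ _ _ _ _⟩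
  have hkerΦ : RingHom.ker Φ = Ideal.span {algebraMap T L f} := by
    refine le_antisymm (fun z hz => ?_) ((Ideal.span_singleton_le_iff_mem _).2 ?_)
    · obtain ⟨b, s, rfl⟩ := IsLocalization.exists_mk'_eq (P.comap φ).primeCompl z
      rw [RingHom.mem_ker, Localization.localRingHom_mk', IsLocalization.mk'_eq_zero_iff] at hz
      obtain ⟨⟨m, hm⟩, hmb⟩ := hz
      obtain ⟨m, rfl⟩ := hφ m
      have hmem : m * b ∈ Ideal.span {f} := by
        rw [← hker, RingHom.mem_ker, map_mul]
        exact hmb
      obtain ⟨t, ht⟩ := Ideal.mem_span_singleton'.1 hmem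
      have hu : IsUnit (algebraMap T L m) := IsLocalization.map_units L (⟨m, hm⟩ : (P.comap φ).primeCompl)
      rw [IsLocalization.mk'_eq_mul_mk'_one]
      refine Ideal.mul_mem_right _ _ ?_
      rw [← Ideal.unit_mul_mem_iff_mem _ hu, ← map_mul, ← ht, map_mul]
      exact Ideal.mul_mem_left _ _ (Ideal.mem_span_singleton_self _)
    · rw [RingHom.mem_ker, Localization.localRingHom_to_map]
      rw [show φ f = 0 from RingHom.mem_ker.1 (hker ▸ Ideal.mem_span_singleton_self f), map_zero]
  have hfQ : f ∈ P.comap φ :=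
    Ideal.mem_comap.2 (by rw [show φ f = 0 from RingHom.mem_ker.1 (hker ▸ Ideal.mem_span_singleton_self f)]; exact P.zero_mem)
  haveI : IsRegularLocalRing (L ⧸ Ideal.span {algebraMap T L f}) :=
    CommAlgDim.isRegularLocalRing_quotient_singleton
      ((IsLocalization.AtPrime.to_map_mem_maximal_iff L (P.comap φ) f).2 hfQ) fun h => by
        rw [← Localization.AtPrime.map_eq_maximalIdeal, ← Ideal.map_pow] at h
        obtain ⟨s, hs, hsf⟩ := (IsLocalization.algebraMap_mem_map_algebraMap_iff (P.comap φ).primeCompl L _ _).1 h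
        exact hf s hs hsf
  exact IsRegularLocalRing.of_ringEquiv
    ((Ideal.quotEquivOfEq hkerΦ.symm).trans (RingHom.quotientKerEquivOfSurjective hsurj))

variable {R : Type u} [CommRing R] [IsDomain R] [IsDiscreteValuationRing R]

/-- A point of the model where the equation lies in the square of the prime does not exist. -/
theorem not_mem_sq (W : WeierstrassCurve.Affine R)
    (h3 : W.a₃ ∈ maximalIdeal R) (h4 : W.a₄ ∈ maximalIdeal R)
    (h6 : W.a₆ ∈ maximalIdeal R) (h6' : W.a₆ ∉ maximalIdeal R ^ 2)
    {L : Type u} [CommRing L] [IsDomain L] (q : R[X][Y] →+* L) (hFQ : q W.polynomial = 0)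
    (hgen : (∀ r ∈ maximalIdeal R, q (C (C r)) = 0) ∨ W.Δ ≠ 0)
    (s : R[X][Y]) (hs : q s ≠ 0) (hsf : s * W.polynomial ∈ RingHom.ker q ^ 2) : False := by
  let c : R →+* L := q.comp (C.comp C)
  let xb : L := q (C X)
  let yb : L := q X
  let W' : WeierstrassCurve.Affine L := W.map c
  -- `q` is evaluation at `(xb, yb)`
  have hq : ∀ t : R[X][Y], q t = (t.map (mapRingHom c)).evalEval xb yb := by
    intro t
    have h : q = (evalEvalRingHom xb yb).comp (mapRingHom (mapRingHom c)) := by
      ext <;> simp [c, xb, yb]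
    exact RingHom.congr_fun h t
  have hE : W'.Equation xb yb := by
    show W'.polynomial.evalEval xb yb = 0
    rw [show W'.polynomial = W.polynomial.map (mapRingHom c) from W.map_polynomial c, ← hq]
    exact hFQ
  -- `s * F ∈ RingHom.ker q ^ 2` forces the partial derivatives to vanish
  have hdual : ∀ u v : L,
      u * W'.polynomialX.evalEval xb yb + v * W'.polynomialY.evalEval xb yb = 0 := by
    intro u v
    let ι := algebraMap (L) (DualNumber (L))
    let X' : DualNumber (L) := TrivSqZeroExt.inl xb + TrivSqZeroExt.inr u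
    let Y' : DualNumber (L) := TrivSqZeroExt.inl yb + TrivSqZeroExt.inr v
    let ψ : R[X][Y] →+* DualNumber (L) := eval₂RingHom (eval₂RingHom (ι.comp c) X') Y'
    have hfst : ∀ t, TrivSqZeroExt.fst (ψ t) = q t := by
      intro t
      have h : (TrivSqZeroExt.fstHom (L) (L) (L)).toRingHom.comp ψ = q := by
        ext <;> simp [ψ, ι, X', Y', c, xb, yb, TrivSqZeroExt.algebraMap_eq_inl]
      exact RingHom.congr_fun h t
    have hψQ : ∀ t ∈ RingHom.ker q ^ 2, ψ t = 0 := by
      intro t ht
      rw [pow_two] at ht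
      refine Submodule.mul_induction_on ht (fun a ha b hb => ?_) fun a b ha hb => by rw [map_add, ha, hb, add_zero]
      have ha0 : TrivSqZeroExt.fst (ψ a) = 0 := (hfst a).trans ha
      have hb0 : TrivSqZeroExt.fst (ψ b) = 0 := (hfst b).trans hb
      rw [map_mul]
      ext <;> simp [ha0, hb0]
    have h := congrArg TrivSqZeroExt.snd (hψQ _ hsf)
    have hF0 : TrivSqZeroExt.fst (ψ W.polynomial) = 0 := (hfst _).trans (hFQ)
    rw [map_mul, TrivSqZeroExt.snd_mul, hF0, MulOpposite.op_zero, zero_smul, add_zero, hfst, smul_eq_mul,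
      TrivSqZeroExt.snd_zero, mul_eq_zero] at h
    rcases h with h | h
    · exact absurd h hs
    refine Eq.trans ?_ h
    simp [ψ, ι, X', Y', WeierstrassCurve.Affine.polynomial, WeierstrassCurve.Affine.evalEval_polynomialX,
      WeierstrassCurve.Affine.evalEval_polynomialY, W', TrivSqZeroExt.algebraMap_eq_inl, pow_succ]
    ring
  have hX : W'.polynomialX.evalEval xb yb = 0 := by simpa using hdual 1 0
  have hY : W'.polynomialY.evalEval xb yb = 0 := by simpa using hdual 0 1
  by_cases hm : ∀ r ∈ maximalIdeal R, c r = 0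
  · -- the singular point of the special fibre
    rw [WeierstrassCurve.Affine.equation_iff'] at hE
    rw [WeierstrassCurve.Affine.evalEval_polynomialX] at hX
    rw [WeierstrassCurve.Affine.evalEval_polynomialY] at hY
    simp only [W', WeierstrassCurve.map_a₁, WeierstrassCurve.map_a₂, WeierstrassCurve.map_a₃,
      WeierstrassCurve.map_a₄, WeierstrassCurve.map_a₆, hm _ h3, hm _ h4, hm _ h6] at hE hX hY
    have hx3 : xb ^ 3 = 0 := by linear_combination 2 * hE - xb * hX - yb * hY
    have hx0 : xb = 0 := pow_eq_zero_iff (by norm_num) |>.1 hx3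
    have hy2 : yb ^ 2 = 0 := by rw [hx0] at hE; linear_combination hE
    have hy0 : yb = 0 := pow_eq_zero_iff (by norm_num) |>.1 hy2
    have hXQ : C X ∈ RingHom.ker q := hx0
    have hYQ : X ∈ RingHom.ker q := hy0
    let e : R[X][Y] →+* R := evalEvalRingHom 0 0
    have he : ∀ t, t - C (C (e t)) ∈ RingHom.ker q := fun t => by
      rw [RingHom.mem_ker, map_sub, sub_eq_zero]
      have h : q = c.comp e := by
        ext <;> simp [c, e, show q (C X) = 0 from hx0, show q X = 0 from hy0]
      exact RingHom.congr_fun h t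
    have hQm : ∀ t ∈ RingHom.ker q, e t ∈ maximalIdeal R := fun t ht => (IsLocalRing.mem_maximalIdeal _).2 fun hu => by
      have h : C (C (e t)) ∈ RingHom.ker q := by simpa using (RingHom.ker q).sub_mem ht (he t)
      have h1 := Ideal.eq_top_of_isUnit_mem _ h ((hu.map C).map C)
      rw [Ideal.eq_top_iff_one, RingHom.mem_ker, map_one] at h1
      exact one_ne_zero h1
    have hes : IsUnit (e s) := by
      by_contra hu
      refine hs (RingHom.mem_ker.1 ?_)
      have h : C (C (e s)) ∈ RingHom.ker q := (hm _ ((IsLocalRing.mem_maximalIdeal _).2 hu))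
      simpa using (RingHom.ker q).add_mem (he s) h
    have h2 : e (s * W.polynomial) ∈ maximalIdeal R ^ 2 := by
      have h := Ideal.mem_map_of_mem e hsf
      rw [Ideal.map_pow] at h
      exact Ideal.pow_right_mono (Ideal.map_le_iff_le_comap.2 fun t ht => Ideal.mem_comap.2 (hQm t ht)) 2 h
    have heF : e W.polynomial = -W.a₆ := by
      simp [e, WeierstrassCurve.Affine.polynomial]
    rw [map_mul, heF, mul_neg, neg_mem_iff, Ideal.unit_mul_mem_iff_mem _ hes] at h2
    exact h6' h2
  · -- the generic fibre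
    have hΔ : W.Δ ≠ 0 := hgen.resolve_left hm
    have hinj : Function.Injective c := by
      rw [RingHom.injective_iff_ker_eq_bot]
      by_contra hne
      haveI : (RingHom.ker c).IsPrime := RingHom.ker_isPrime c
      exact hm fun r hr => by
        have hmax := IsPrime.to_maximal_ideal hne
        rw [← RingHom.mem_ker, IsLocalRing.eq_maximalIdeal hmax]
        exact hr
    have hΔ' : W'.Δ ≠ 0 := by
      show (W.map c).Δ ≠ 0
      rw [WeierstrassCurve.map_Δ]
      exact fun h => hΔ (hinj (h.trans (map_zero c).symm))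
    obtain ⟨-, hns⟩ := (WeierstrassCurve.Affine.equation_iff_nonsingular_of_Δ_ne_zero hΔ').1 hE
    exact hns.elim (fun h => h hX) (fun h => h hY)

/-- The affine Weierstrass model is regular at `P`. -/
theorem regular (W : WeierstrassCurve.Affine R)
    (h3 : W.a₃ ∈ maximalIdeal R) (h4 : W.a₄ ∈ maximalIdeal R)
    (h6 : W.a₆ ∈ maximalIdeal R) (h6' : W.a₆ ∉ maximalIdeal R ^ 2)
    (P : Ideal W.CoordinateRing) [P.IsPrime]
    (hgen : (∀ r ∈ maximalIdeal R, algebraMap R W.CoordinateRing r ∈ P) ∨ W.Δ ≠ 0) :
    IsRegularLocalRing (Localization.AtPrime P) := by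
  classical
  let φ : R[X][Y] →+* W.CoordinateRing := AdjoinRoot.mk W.polynomial
  let Q : Ideal R[X][Y] := P.comap φ
  have hker : RingHom.ker φ = Ideal.span {W.polynomial} := Ideal.mk_ker
  refine regular_of_surjective φ AdjoinRoot.mk_surjective W.polynomial hker P fun s hs hsf => ?_
  haveI : Q.IsPrime := inferInstance
  have hFQ : W.polynomial ∈ Q := by
    show φ W.polynomial ∈ P
    rw [show φ W.polynomial = 0 from AdjoinRoot.mk_self]; exact P.zero_mem
  refine not_mem_sq W h3 h4 h6 h6' (L := R[X][Y] ⧸ Q) (Ideal.Quotient.mk Q) (Ideal.Quotient.eq_zero_iff_mem.2 hFQ)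
    (hgen.imp_left fun h r hr => Ideal.Quotient.eq_zero_iff_mem.2 (show C (C r) ∈ Q from h r hr)) s
    (fun h : Ideal.Quotient.mk Q s = 0 => hs (Ideal.Quotient.eq_zero_iff_mem.1 h)) ?_
  rw [Ideal.mk_ker]
  exact hsf

end WeierRegLib
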